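import Groth.Prelude.Def_DCoh2
import Groth.Agent.H1Omega.Exists
import Groth.Agent.GrpOmega.Section
import Groth.Agent.CohPullLib.BCComp
import Groth.Agent.TriCat.KInjCriterion
import Groth.Agent.S5975
import Groth.Agent.S9370
import Groth.Agent.S9371
import Groth.Agent.S9386
import Groth.Agent.S9711
import Groth.Agent.S9776

/-!
# Independence of the two-term cotangent complex of the factorisation
-/

set_option autoImplicit false
set_option backward.isDefEq.respectTransparency false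
set_option backward.isDefEq.respectTransparency.types false
set_option linter.style.haveILetI false
set_option maxHeartbeats 1000000

universe u

open CategoryTheory CategoryTheory.Limits AlgebraicGeometry TopologicalSpace Opposite

noncomputable section

namespace Groth.Agent.H1NL

open Groth.Agent

attribute [local instance] HasDerivedCategory.standard

theorem pullSec_eq_pullSect {X Y : Scheme.{u}} (φ : X ⟶ Y) (M : Y.Modules) (V : Y.Opens) (x : Γ(M, V)) :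
    QCoh.pullSec φ M (le_refl (φ ⁻¹ᵁ V)) x = OmegaSh.pullSect φ M V x :=
  QCoh.map_id' _ _

theorem hom_ext {X Y : Scheme.{u}} (φ : X ⟶ Y) {M : Y.Modules} {N : X.Modules}
    (a b : (Scheme.Modules.pullback φ).obj M ⟶ N)
    (h : ∀ (V : Y.Opens) (x : Γ(M, V)),
      a.app (φ ⁻¹ᵁ V) (OmegaSh.pullSect φ M V x) = b.app (φ ⁻¹ᵁ V) (OmegaSh.pullSect φ M V x)) : a = b :=
  CohPullLib.pullback_hom_ext φ a b fun V x => by rw [pullSec_eq_pullSect]; exact h V x

theorem pullSect_map {X Y : Scheme.{u}} (φ : X ⟶ Y) {M N : Y.Modules} (k : M ⟶ N) (V : Y.Opens) (x : Γ(M, V)) :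
    ((Scheme.Modules.pullback φ).map k).app (φ ⁻¹ᵁ V) (OmegaSh.pullSect φ M V x) =
      OmegaSh.pullSect φ N V (k.app V x) := by
  rw [← pullSec_eq_pullSect, ← pullSec_eq_pullSect]
  exact ExistEasy.pullSec_natural φ k _ x

theorem comp_pullSect {X Y Z : Scheme.{u}} (f : X ⟶ Y) (g : Y ⟶ Z) (M : Z.Modules) (V : Z.Opens) (x : Γ(M, V)) :
    ((Scheme.Modules.pullbackComp f g).inv.app M).app (f ⁻¹ᵁ (g ⁻¹ᵁ V)) (OmegaSh.pullSect (f ≫ g) M V x) =
      OmegaSh.pullSect f ((Scheme.Modules.pullback g).obj M) (g ⁻¹ᵁ V) (OmegaSh.pullSect g M V x) := by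
  rw [← pullSec_eq_pullSect, ← pullSec_eq_pullSect, ← pullSec_eq_pullSect]
  exact CohPullLib.pullbackComp_inv_pullSec f g M le_rfl le_rfl x

theorem id_pullSect {X : Scheme.{u}} (M : X.Modules) (U : X.Opens) (x : Γ(M, U)) :
    ((Scheme.Modules.pullbackId X).inv.app M).app U x = OmegaSh.pullSect (𝟙 X) M U x := by
  have h := unit_conjugateEquiv Adjunction.id (Scheme.Modules.pullbackPushforwardAdjunction (𝟙 X))
    (Scheme.Modules.pullbackId X).hom M
  rw [Scheme.Modules.conjugateEquiv_pullbackId_hom] at h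
  have h1 : x = ((Scheme.Modules.pullbackId X).hom.app M).app U (OmegaSh.pullSect (𝟙 X) M U x) :=
    congrArg (fun φ => Scheme.Modules.Hom.app φ U x) h
  refine (congrArg (((Scheme.Modules.pullbackId X).inv.app M).app U) h1).trans ?_
  exact congrArg (fun φ : (Scheme.Modules.pullback (𝟙 X)).obj M ⟶ (Scheme.Modules.pullback (𝟙 X)).obj M =>
    Scheme.Modules.Hom.app φ U (OmegaSh.pullSect (𝟙 X) M U x))
    ((Scheme.Modules.pullbackId X).hom_inv_id_app M)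

theorem res_refl {X : Scheme.{u}} (M : X.Modules) {U : X.Opens} (h : U ≤ U) (x : Γ(M, U)) :
    M.presheaf.map (homOfLE h).op x = x :=
  QCoh.map_id' _ _

/-- Differentials of an open of a fibre product relative to one factor. -/
theorem isSplitMono_diff {Y V V' P W : Scheme.{u}} (g : V ⟶ Y) (g' : V' ⟶ Y) (a : P ⟶ V) (b : P ⟶ V')
    (hP : IsPullback a b g g') (ι : W ⟶ P) [IsOpenImmersion ι] (p : W ⟶ V) (hp : ι ≫ a = p)
    (h : W ⟶ Y) (hw : p ≫ g = h)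
    (Ω : V.Modules) (d : OmegaSh.Der g Ω) (hd : OmegaSh.IsUniversal d)
    (ΩW : W.Modules) (dW : OmegaSh.Der h ΩW) (hdW : OmegaSh.IsUniversal dW)
    (c : (Scheme.Modules.pullback p).obj Ω ⟶ ΩW) (hc : OmegaSh.IsDiffCompat p d dW c) :
    IsSplitMono c := by
  subst hp hw
  obtain ⟨ΩP, dP, hdP⟩ := H1Omega.exists_isUniversal b
  obtain ⟨Ω₂, d₂, hd₂⟩ := H1Omega.exists_isUniversal (ι ≫ b)
  obtain ⟨eP, heP, -⟩ := S9370.result g b a g' hP.w.symm Ω d hd ΩP dP hdP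
  haveI : IsIso eP := S9386.result g g' a b hP Ω d hd ΩP dP hdP eP heP
  obtain ⟨eι, heι, -⟩ := S9370.result b (ι ≫ b) ι (𝟙 V') (by simp) ΩP dP hdP Ω₂ d₂ hd₂
  haveI : IsIso eι := S9776.result b (ι ≫ b) ι (𝟙 V') (by simp) ΩP dP hdP Ω₂ d₂ hd₂ eι heι
  have hsq : ((ι ≫ a) ≫ g) = (ι ≫ b) ≫ g' := by rw [Category.assoc, hP.w, Category.assoc]
  obtain ⟨c₂, hc₂, -⟩ := S9370.result ((ι ≫ a) ≫ g) (ι ≫ b) (𝟙 W) g' (by rw [Category.id_comp, hsq])
    ΩW dW hdW Ω₂ d₂ hd₂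
  obtain ⟨e, he, hu⟩ := S9370.result g (ι ≫ b) (ι ≫ a) g' hsq.symm Ω d hd Ω₂ d₂ hd₂
  let π : ΩW ⟶ Ω₂ := (Scheme.Modules.pullbackId W).inv.app ΩW ≫ c₂
  let e' : (Scheme.Modules.pullback (ι ≫ a)).obj Ω ⟶ Ω₂ :=
    (Scheme.Modules.pullbackComp ι a).inv.app Ω ≫ (Scheme.Modules.pullback ι).map eP ≫ eι
  have h1 : e' = e := by
    refine hu _ fun U s => ?_
    show eι.app _ (((Scheme.Modules.pullback ι).map eP).app _
      (((Scheme.Modules.pullbackComp ι a).inv.app Ω).app (ι ⁻¹ᵁ (a ⁻¹ᵁ U))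
        (OmegaSh.pullSect (ι ≫ a) Ω U (d.app U s)))) = d₂.app _ ((ι ≫ a).app U s)
    rw [comp_pullSect, pullSect_map, heP U s, heι (a ⁻¹ᵁ U) (a.app U s)]
    rfl
  have h2 : c ≫ π = e := by
    refine hu _ fun U s => ?_
    show c₂.app _ (((Scheme.Modules.pullbackId W).inv.app ΩW).app ((ι ≫ a) ⁻¹ᵁ U)
      (c.app _ (OmegaSh.pullSect (ι ≫ a) Ω U (d.app U s)))) = d₂.app _ ((ι ≫ a).app U s)
    rw [hc U s, id_pullSect]
    exact hc₂ ((ι ≫ a) ⁻¹ᵁ U) ((ι ≫ a).app U s)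
  haveI : IsIso (c ≫ π) := by rw [h2, ← h1]; infer_instance
  exact ⟨⟨⟨π ≫ inv (c ≫ π), by rw [← Category.assoc, IsIso.hom_inv_id]⟩⟩⟩

section double

theorem rel : (ComplexShape.up ℤ).Rel (-1 : ℤ) 0 := neg_add_cancel (1 : ℤ)

variable {A : Type*} [Category A] [Abelian A]

/-- Maps between two-term complexes. -/
def doubleMap {A₀ A₁ B₀ B₁ : A} (φ : A₀ ⟶ A₁) (ψ : B₀ ⟶ B₁) (a : A₀ ⟶ B₀) (b : A₁ ⟶ B₁)
    (w : a ≫ ψ = φ ≫ b) :
    HomologicalComplex.double φ (show (ComplexShape.up ℤ).Rel (-1 : ℤ) 0 from neg_add_cancel (1 : ℤ)) ⟶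
      HomologicalComplex.double ψ (show (ComplexShape.up ℤ).Rel (-1 : ℤ) 0 from neg_add_cancel (1 : ℤ)) :=
  HomologicalComplex.mkHomFromDouble _ (show (-1 : ℤ) ≠ 0 by decide)
    (a ≫ (HomologicalComplex.doubleXIso₀ ψ _).inv)
    (b ≫ (HomologicalComplex.doubleXIso₁ ψ _ (show (-1 : ℤ) ≠ 0 by decide)).inv)
    (by rw [HomologicalComplex.double_d ψ _ (show (-1 : ℤ) ≠ 0 by decide)]; simp [reassoc_of% w])
    (fun k _ => by rw [HomologicalComplex.double_d_eq_zero₀ ψ _ 0 k (by decide), comp_zero])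

theorem acyclic_double_id (Q : A) :
    (HomologicalComplex.double (𝟙 Q)
      (show (ComplexShape.up ℤ).Rel (-1 : ℤ) 0 from neg_add_cancel (1 : ℤ))).Acyclic := by
  intro n
  let K := HomologicalComplex.double (𝟙 Q)
    (show (ComplexShape.up ℤ).Rel (-1 : ℤ) 0 from neg_add_cancel (1 : ℤ))
  haveI : IsIso (K.d (-1) 0) := by
    rw [HomologicalComplex.double_d _ _ (show (-1 : ℤ) ≠ 0 by decide)]; infer_instance
  rw [HomologicalComplex.exactAt_iff' K (n - 1) n (n + 1) (by simp) (by simp)]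
  by_cases h₀ : n = -1
  · subst h₀
    exact (ShortComplex.exact_iff_mono _ ((HomologicalComplex.isZero_double_X (𝟙 Q) rel _
      (by decide) (by decide)).eq_of_src _ _)).2 (inferInstanceAs (Mono (K.d (-1) 0)))
  · by_cases h₁ : n = 0
    · subst h₁
      exact (ShortComplex.exact_iff_epi _ ((HomologicalComplex.isZero_double_X (𝟙 Q) rel _
        (by decide) (by decide)).eq_of_tgt _ _)).2 (inferInstanceAs (Epi (K.d (-1) 0)))
    · exact ShortComplex.exact_of_isZero_X₂ _ (HomologicalComplex.isZero_double_X (𝟙 Q) rel _ h₀ h₁)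

/-- A map of two-term complexes whose termwise cokernels are identified is a quasi-isomorphism. -/
theorem quasiIso_doubleMap {A₀ A₁ B₀ B₁ Q : A} (φ : A₀ ⟶ A₁) (ψ : B₀ ⟶ B₁) (a : A₀ ⟶ B₀) (b : A₁ ⟶ B₁)
    (w : a ≫ ψ = φ ≫ b) (q₀ : B₀ ⟶ Q) (q₁ : B₁ ⟶ Q) (hq : ψ ≫ q₁ = q₀) (w₀ : a ≫ q₀ = 0) (w₁ : b ≫ q₁ = 0)
    (h₀ : (ShortComplex.mk a q₀ w₀).ShortExact) (h₁ : (ShortComplex.mk b q₁ w₁).ShortExact) :
    QuasiIso (doubleMap φ ψ a b w) := by
  let g := doubleMap ψ (𝟙 Q) q₀ q₁ (by rw [Category.comp_id, hq])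
  have wz : doubleMap φ ψ a b w ≫ g = 0 := by
    ext <;> simp [g, doubleMap, reassoc_of% w₀, reassoc_of% w₁]
  refine TriCat.quasiIso_f_of_acyclic (S := ShortComplex.mk _ _ wz)
    (HomologicalComplex.shortExact_of_degreewise_shortExact _ fun k => ?_) (acyclic_double_id Q)
  by_cases hk₀ : k = -1
  · subst hk₀
    exact ShortComplex.shortExact_of_iso (ShortComplex.isoMk
      (HomologicalComplex.doubleXIso₀ φ rel).symm (HomologicalComplex.doubleXIso₀ ψ rel).symm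
      (HomologicalComplex.doubleXIso₀ (𝟙 Q) rel).symm (by simp [doubleMap]) (by simp [g, doubleMap])) h₀
  · by_cases hk₁ : k = 0
    · subst hk₁
      exact ShortComplex.shortExact_of_iso (ShortComplex.isoMk
        (HomologicalComplex.doubleXIso₁ φ rel (show (-1 : ℤ) ≠ 0 by decide)).symm
        (HomologicalComplex.doubleXIso₁ ψ rel (show (-1 : ℤ) ≠ 0 by decide)).symm
        (HomologicalComplex.doubleXIso₁ (𝟙 Q) rel (show (-1 : ℤ) ≠ 0 by decide)).symm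
        (by simp [doubleMap]) (by simp [g, doubleMap])) h₁
    · have z₁ := HomologicalComplex.isZero_double_X φ
        (show (ComplexShape.up ℤ).Rel (-1 : ℤ) 0 from neg_add_cancel (1 : ℤ)) k hk₀ hk₁
      have z₂ := HomologicalComplex.isZero_double_X ψ
        (show (ComplexShape.up ℤ).Rel (-1 : ℤ) 0 from neg_add_cancel (1 : ℤ)) k hk₀ hk₁
      have z₃ := HomologicalComplex.isZero_double_X (𝟙 Q)
        (show (ComplexShape.up ℤ).Rel (-1 : ℤ) 0 from neg_add_cancel (1 : ℤ)) k hk₀ hk₁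
      exact { exact := ShortComplex.exact_of_isZero_X₂ _ z₂
              mono_f := ⟨fun _ _ _ => z₁.eq_of_tgt _ _⟩
              epi_g := ⟨fun _ _ _ => z₃.eq_of_src _ _⟩ }

end double

/-- Passing to a smooth scheme over the ambient one. -/
theorem nonempty_iso_of_smooth {X Y V W : Scheme.{u}} (g : V ⟶ Y) (p : W ⟶ V) [Smooth p]
    (h : W ⟶ Y) (hw : p ≫ g = h) (i : X ⟶ V) [IsClosedImmersion i] (i₁ : X ⟶ W) [IsClosedImmersion i₁]
    (hi : i₁ ≫ p = i)
    (Ω : V.Modules) (d : OmegaSh.Der g Ω) (hd : OmegaSh.IsUniversal d)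
    (ΩW : W.Modules) (dW : OmegaSh.Der h ΩW) (hdW : OmegaSh.IsUniversal dW)
    (φ : Omega.conormal i ⟶ (Scheme.Modules.pullback i).obj Ω) (hφ : OmegaSh.IsConormalDiff i d φ)
    (φ₁ : Omega.conormal i₁ ⟶ (Scheme.Modules.pullback i₁).obj ΩW) (hφ₁ : OmegaSh.IsConormalDiff i₁ dW φ₁)
    (c : (Scheme.Modules.pullback p).obj Ω ⟶ ΩW) (hc : OmegaSh.IsDiffCompat p d dW c) [IsSplitMono c] :
    Nonempty (DCoh.toD X (HomologicalComplex.double φ
        (show (ComplexShape.up ℤ).Rel (-1 : ℤ) 0 from neg_add_cancel (1 : ℤ))) ≅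
      DCoh.toD X (HomologicalComplex.double φ₁
        (show (ComplexShape.up ℤ).Rel (-1 : ℤ) 0 from neg_add_cancel (1 : ℤ)))) := by
  subst hi hw
  obtain ⟨ψ, hψ, -⟩ := S9371.result i₁ (i₁ ≫ p) p (𝟙 X) (Category.id_comp _)
  obtain ⟨ΩV, dV, hdV⟩ := H1Omega.exists_isUniversal p
  obtain ⟨φV, hφV⟩ := GrpOmega.exists_conormalDiff p i₁ ΩV dV
  obtain ⟨wV, hV⟩ := S9711.result p i₁ (i₁ ≫ p) rfl ΩV dV hdV ψ hψ φV hφV
  obtain ⟨c₂, hc₂, -⟩ := S9370.result (p ≫ g) p (𝟙 W) g (Category.id_comp _).symm ΩW dW hdW ΩV dV hdV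
  obtain ⟨he, him⟩ := S5975.result p g Ω d hd ΩW dW hdW ΩV dV hdV c hc c₂ hc₂
  let π : ΩW ⟶ ΩV := (Scheme.Modules.pullbackId W).inv.app ΩW ≫ c₂
  have hπd : ∀ (U : W.Opens) (t : Γ(W, U)), π.app U (dW.app U t) = dV.app U t := fun U t =>
    (congrArg (c₂.app U) (id_pullSect ΩW U (dW.app U t))).trans (hc₂ U t)
  have wc : c ≫ π = 0 := by
    show c ≫ (Scheme.Modules.pullbackId W).inv.app ΩW ≫ c₂ = 0
    rw [← imageSubobject_arrow_comp c, ← Subobject.ofLE_arrow him.le, Category.assoc, Category.assoc,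
      kernelSubobject_arrow_comp, comp_zero, comp_zero]
  haveI : Epi π := epi_comp _ _
  have hS : (ShortComplex.mk c π wc).Exact :=
    (ShortComplex.exact_iff_image_eq_kernel _).2 him
  let sp := ShortComplex.Splitting.ofExactOfRetraction _ hS (retraction c) (IsSplitMono.id c)
    (inferInstanceAs (Epi π))
  haveI : (Scheme.Modules.pullback i₁).Additive := Functor.additive_of_preserves_binary_products _
  let c₀ : (Scheme.Modules.pullback (i₁ ≫ p)).obj Ω ⟶ (Scheme.Modules.pullback i₁).obj ΩW :=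
    (Scheme.Modules.pullbackComp i₁ p).inv.app Ω ≫ (Scheme.Modules.pullback i₁).map c
  let π₀ := (Scheme.Modules.pullback i₁).map π
  have w₁ : c₀ ≫ π₀ = 0 := by
    simp only [c₀, π₀, Category.assoc, ← Functor.map_comp, wc, Functor.map_zero, comp_zero]
  have h₁ : (ShortComplex.mk c₀ π₀ w₁).ShortExact :=
    ShortComplex.shortExact_of_iso (ShortComplex.isoMk
      (S₁ := (ShortComplex.mk c π wc).map (Scheme.Modules.pullback i₁)) (S₂ := ShortComplex.mk c₀ π₀ w₁)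
      ((Scheme.Modules.pullbackComp i₁ p).app Ω) (Iso.refl _) (Iso.refl _)
      (by
        show ((Scheme.Modules.pullbackComp i₁ p).app Ω).hom ≫
            (Scheme.Modules.pullbackComp i₁ p).inv.app Ω ≫ (Scheme.Modules.pullback i₁).map c =
          (Scheme.Modules.pullback i₁).map c ≫ 𝟙 _
        exact ((Iso.hom_inv_id_app_assoc (Scheme.Modules.pullbackComp i₁ p) Ω _).trans (Category.comp_id _).symm))
      (by
        show 𝟙 _ ≫ π₀ = (Scheme.Modules.pullback i₁).map π ≫ 𝟙 _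
        rw [Category.id_comp, Category.comp_id]))
      (sp.map (Scheme.Modules.pullback i₁)).shortExact
  let ψ₀ : Omega.conormal (i₁ ≫ p) ⟶ Omega.conormal i₁ :=
    (Scheme.Modules.pullbackId X).inv.app _ ≫ ψ
  have w₀ : ψ₀ ≫ φV = 0 := by simp [ψ₀, wV]
  have h₀ : (ShortComplex.mk ψ₀ φV w₀).ShortExact :=
    ShortComplex.shortExact_of_iso (ShortComplex.isoMk
      (S₁ := ShortComplex.mk ψ φV wV) (S₂ := ShortComplex.mk ψ₀ φV w₀)
      ((Scheme.Modules.pullbackId X).app _) (Iso.refl _) (Iso.refl _)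
      ((Iso.hom_inv_id_app_assoc (Scheme.Modules.pullbackId X) _ ψ).trans (Category.comp_id _).symm)
      ((Category.id_comp _).trans (Category.comp_id _).symm)) hV
  have hsq : ψ₀ ≫ φ₁ = φ ≫ c₀ := by
    refine hom_ext (i₁ ≫ p) _ _ fun U k => ?_
    obtain ⟨s, hs⟩ := OmegaUniv.exists_idealSect_of_app_eq_zero i₁ _ _
      (show i₁.app (p ⁻¹ᵁ U) (p.app U (OmegaSh.idealSect (i₁ ≫ p).ker U k)) = 0 from
        OmegaUniv.app_idealSect (i₁ ≫ p) U k)
    have h1 := hψ.2 U k s hs (i₁ ⁻¹ᵁ p ⁻¹ᵁ U) le_rfl le_rfl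
    erw [res_refl, res_refl] at h1
    show φ₁.app _ (ψ.app _ (((Scheme.Modules.pullbackId X).inv.app _).app ((i₁ ≫ p) ⁻¹ᵁ U)
        (OmegaSh.conormalSect (i₁ ≫ p) U k))) =
      ((Scheme.Modules.pullback i₁).map c).app _ (((Scheme.Modules.pullbackComp i₁ p).inv.app Ω).app
        (i₁ ⁻¹ᵁ (p ⁻¹ᵁ U)) (φ.app ((i₁ ≫ p) ⁻¹ᵁ U) (OmegaSh.conormalSect (i₁ ≫ p) U k)))
    rw [id_pullSect, hφ U k]
    erw [h1]
    refine (hφ₁ (p ⁻¹ᵁ U) s).trans ?_
    rw [hs, comp_pullSect, pullSect_map, hc U]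
  have hq : φ₁ ≫ π₀ = φV := by
    refine hom_ext i₁ _ _ fun U k => ?_
    show π₀.app _ (φ₁.app (i₁ ⁻¹ᵁ U) (OmegaSh.conormalSect i₁ U k)) =
      φV.app (i₁ ⁻¹ᵁ U) (OmegaSh.conormalSect i₁ U k)
    rw [hφ₁ U k, hφV U k, pullSect_map, hπd]
  haveI := quasiIso_doubleMap φ φ₁ ψ₀ c₀ hsq φV π₀ hq w₀ w₁ h₀ h₁
  exact ⟨asIso (DerivedCategory.Q.map (doubleMap φ φ₁ ψ₀ c₀ hsq))⟩

end Groth.Agent.H1NL
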